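import Cfsg.Agent.Lib.Leech.OutStab.ThreeData
import Cfsg.Agent.Lib.Leech.Mult.ThreeChecks

/-!
The checks of the automorphism certificate of the stabilizer of a vector of norm 48.
-/

set_option autoImplicit false
set_option Elab.async false
set_option maxRecDepth 100000
set_option maxHeartbeats 4000000

namespace CfsgLib.Leech.OutStab

open Cfsg CfsgLib.Leech CfsgLib.Leech.Mult

theorem three_elts : threeCert.eltsOK threeV = true := by decide +kernel

theorem three_comm : threeCert.commOK = true := by decide +kernel

theorem three_fixed : threeCert.fixedOK threeV = true := by decide +kernel

theorem three_word : threeCert.wordSepOK = true := by decide +kernel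

theorem three_prog : slpOK threeCert.T threeCert.prog = true := by decide +kernel

theorem three_levs : levsOK threeCert.T [] threeCert.levs = true := by decide +kernel

theorem three_bound : bound threeCert.levs = 495766656000 := by decide +kernel

end CfsgLib.Leech.OutStab
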