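import Cfsg.Agent.Lib.Leech.OutStab.Gen

/-!
A check of one level with the points read from one packed number.
-/

set_option autoImplicit false

namespace CfsgLib.Leech.OutStab

open Cfsg CfsgLib.Golay CfsgLib.Leech CfsgLib.Leech.Mult

/-- the point at a position of a packed list -/
def packAt (P : ℕ) (i : ℕ) : ℕ := (P >>> (24 * i)) % 16777216

/-- follow the steps, reading points from the packed list -/
def growFast (T : List ℕ) (gens : List ℕ) (P len : ℕ) : List (ℕ × ℕ × ℕ) → ℕ → Option ℕ
  | [], m => some m
  | (n, g, i) :: l, m =>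
    if decide (n < len) && decide (i < len) && m.testBit i && decide (g < gens.length) &&
        (packAt P n == comb (tabOf T (gens.getD g 0)) (packAt P i)) then
      growFast T gens P len l (m ||| 2 ^ n)
    else none

theorem growPts_of_fast {T gens pts : List ℕ} {P : ℕ}
    (hP : ∀ i, i < pts.length → pts.getD i 0 = packAt P i) :
    ∀ (l : List (ℕ × ℕ × ℕ)) (m M : ℕ), growFast T gens P pts.length l m = some M →
      growPts T gens pts l m = some M
  | [], m, M, h => h
  | (n, g, i) :: l, m, M, h => by
    simp only [growFast] at h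
    split at h
    · next hc =>
      simp only [Bool.and_eq_true, decide_eq_true_eq, beq_iff_eq] at hc
      obtain ⟨⟨⟨⟨hn, hi⟩, hm⟩, hg⟩, he⟩ := hc
      simp only [growPts]
      rw [hP n hn, hP i hi, if_pos (by simp only [hm, hg, he, decide_true, beq_self_eq_true, Bool.and_true])]
      exact growPts_of_fast hP l _ M h
    · exact absurd h (by simp)

/-- the checks of one level, with a packed copy of its points -/
def levFast (T : List ℕ) (pre : List ℕ) (L : Lev) (P : ℕ) : Bool :=
  decide (L.b < 16777216) && L.gens.all (fun i => decide (i < T.length)) &&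
    L.gens.all (fun i => pre.all fun k => comb (tabOf T i) k == k) &&
    incOK L.pts && packAt P L.root == L.b && decide (L.root < L.pts.length) &&
    (L.pts == (List.range L.pts.length).map (packAt P)) &&
    growFast T L.gens P L.pts.length L.steps (2 ^ L.root) == some (2 ^ L.pts.length - 1)

theorem levOK_of_fast {T pre : List ℕ} {L : Lev} {P : ℕ} (h : levFast T pre L P = true) :
    levOK T pre L = true := by
  simp only [levFast, Bool.and_eq_true, decide_eq_true_eq, beq_iff_eq] at h
  obtain ⟨⟨⟨⟨⟨⟨⟨hb, hgl⟩, hgf⟩, hinc⟩, hroot⟩, hrl⟩, hP⟩, hgrow⟩ := h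
  have hP' : ∀ i, i < L.pts.length → L.pts.getD i 0 = packAt P i := fun i hi => by
    rw [List.getD_eq_getElem _ _ hi]
    have := List.getElem_of_eq hP hi
    simpa using this
  simp only [levOK, Bool.and_eq_true, decide_eq_true_eq, beq_iff_eq]
  exact ⟨⟨⟨⟨⟨⟨hb, hgl⟩, hgf⟩, hinc⟩, (hP' _ hrl).trans hroot⟩, hrl⟩,
    growPts_of_fast hP' _ _ _ hgrow⟩

end CfsgLib.Leech.OutStab
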