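import Cfsg.Agent.Lib.Leech.Mult.Check

/-!
Generation of a vector stabilizer: straight-line programs and certified orbits along a base of classes.
-/

set_option autoImplicit false
set_option maxRecDepth 10000

namespace CfsgLib.Leech.OutStab

open Cfsg CfsgLib.Golay CfsgLib.Leech CfsgLib.Leech.Mult

attribute [local irreducible] dL bL key keyL coord packB linL bits

/-- one level of the base: a class, generators fixing the earlier ones, and its orbit -/
structure Lev where
  /-- the class -/
  b : ℕ
  /-- positions of the generators -/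
  gens : List ℕ
  /-- the points, increasing -/
  pts : List ℕ
  /-- position of the class among the points -/
  root : ℕ
  /-- new position, generator, known position -/
  steps : List (ℕ × ℕ × ℕ)

/-- tables from packed numbers -/
def tabOf (T : List ℕ) (i : ℕ) : List ℕ := unpackC (T.getD i 0)

/-- every line of the program after the first two is a product of earlier ones -/
def slpOK (T : List ℕ) (prog : List (ℕ × ℕ)) : Bool :=
  T.length == prog.length + 2 &&
    ((List.range prog.length).zip prog).all fun z =>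
      decide (z.2.1 < z.1 + 2) && decide (z.2.2 < z.1 + 2) &&
        mulC (tabOf T z.2.1) (tabOf T z.2.2) == tabOf T (z.1 + 2)

/-- strictly increasing -/
def incOK : List ℕ → Bool
  | a :: b :: l => decide (a < b) && incOK (b :: l)
  | _ => true

/-- follow the steps -/
def growPts (T : List ℕ) (gens pts : List ℕ) : List (ℕ × ℕ × ℕ) → ℕ → Option ℕ
  | [], m => some m
  | (n, g, i) :: l, m =>
    if m.testBit i && decide (g < gens.length) &&
        (pts.getD n 0 == comb (tabOf T (gens.getD g 0)) (pts.getD i 0)) then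
      growPts T gens pts l (m ||| 2 ^ n)
    else none

/-- the checks of one level -/
def levOK (T : List ℕ) (pre : List ℕ) (L : Lev) : Bool :=
  decide (L.b < 16777216) && L.gens.all (fun i => decide (i < T.length)) &&
    L.gens.all (fun i => pre.all fun k => comb (tabOf T i) k == k) &&
    incOK L.pts && L.pts.getD L.root 0 == L.b && decide (L.root < L.pts.length) &&
    growPts T L.gens L.pts L.steps (2 ^ L.root) == some (2 ^ L.pts.length - 1)

/-- the checks of all levels -/
def levsOK (T : List ℕ) : List ℕ → List Lev → Bool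
  | _, [] => true
  | pre, L :: Ls => levOK T pre L && levsOK T (pre ++ [L.b]) Ls

/-- the certified lower bound -/
def bound (Ls : List Lev) : ℕ := (Ls.map fun L => L.pts.length).prod

variable {V : List ℤ} {hV : inL V = true}

/-- classes below the bound -/
abbrev Cls : Type := {k : ℕ // k < 2 ^ 24}

noncomputable instance actCls : MulAction ↥(stabL hV) Cls where
  smul g k := ⟨act (g : ↥Co0) k.1, act_lt _ _⟩
  one_smul k := Subtype.ext (act_one k.2)
  mul_smul g h k := Subtype.ext (act_mul _ _ _)

theorem coe_smul_cls (g : ↥(stabL hV)) (k : Cls) : (g • k : Cls).1 = act (g : ↥Co0) k.1 := rfl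

theorem slp_mem (H : Subgroup ↥(stabL hV)) {T : List ℕ} {prog : List (ℕ × ℕ)} (hok : slpOK T prog = true)
    (h0 : ∃ g ∈ H, Rep hV g (tabOf T 0)) (h1 : ∃ g ∈ H, Rep hV g (tabOf T 1)) :
    ∀ i, i < T.length → ∃ g ∈ H, Rep hV g (tabOf T i) := by
  simp only [slpOK, Bool.and_eq_true, beq_iff_eq] at hok
  intro i
  induction i using Nat.strong_induction_on with
  | _ i ih =>
    intro hi
    match i with
    | 0 => exact h0
    | 1 => exact h1
    | n + 2 =>
      have hn : n < prog.length := by omega
      have h := List.all_eq_true.1 hok.2 (n, prog[n]) (List.mem_iff_getElem.2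
        ⟨n, by simpa [List.length_zip] using hn, by simp⟩)
      simp only [Bool.and_eq_true, decide_eq_true_eq, beq_iff_eq] at h
      obtain ⟨g, hg, hgr⟩ := ih _ h.1.1 (by omega)
      obtain ⟨g', hg', hgr'⟩ := ih _ h.1.2 (by omega)
      exact ⟨g * g', mul_mem hg hg', h.2 ▸ hgr.mul hV hgr'⟩

theorem inc_getD : ∀ (l : List ℕ), incOK l = true → ∀ i j, i < j → j < l.length →
    l.getD i 0 < l.getD j 0
  | [], _, i, j, _, h => by simp at h
  | [a], _, i, j, h, h' => by simp at h'; omega
  | a :: b :: l, h, i, j, hij, hj => by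
    simp only [incOK, Bool.and_eq_true, decide_eq_true_eq] at h
    have ih := inc_getD (b :: l) h.2
    match i, j with
    | i + 1, j + 1 => exact ih i j (by omega) (by simpa using hj)
    | 0, 1 => exact h.1
    | 0, j + 2 => exact lt_trans h.1 (ih 0 (j + 1) (by omega) (by simpa using hj))

theorem grow_mem (K : Subgroup ↥(stabL hV)) {T gens pts : List ℕ}
    (hg : ∀ i ∈ gens, ∃ g ∈ K, Rep hV g (tabOf T i)) (x : Cls) :
    ∀ (l : List (ℕ × ℕ × ℕ)) (m M : ℕ), growPts T gens pts l m = some M →
      (∀ i, m.testBit i = true → ∃ g ∈ K, (g • x : Cls).1 = pts.getD i 0) →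
      ∀ i, M.testBit i = true → ∃ g ∈ K, (g • x : Cls).1 = pts.getD i 0
  | [], m, M, h, hm => by
    simp only [growPts, Option.some.injEq] at h
    exact h ▸ hm
  | (n, g, i) :: l, m, M, h, hm => by
    simp only [growPts] at h
    split at h
    · next hc =>
      simp only [Bool.and_eq_true, decide_eq_true_eq, beq_iff_eq] at hc
      obtain ⟨⟨hi, hgl⟩, hn⟩ := hc
      refine grow_mem K hg x l _ M h fun j hj => ?_
      rw [Nat.testBit_or, Bool.or_eq_true, Nat.testBit_two_pow, decide_eq_true_eq] at hj
      rcases hj with hj | rfl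
      · exact hm j hj
      · obtain ⟨a, ha, hax⟩ := hm i hi
        obtain ⟨b, hb, hbr⟩ := hg (gens.getD g 0)
          (by rw [List.getD_eq_getElem _ _ hgl]; exact List.getElem_mem hgl)
        refine ⟨b * a, mul_mem hb ha, ?_⟩
        rw [mul_smul, coe_smul_cls, hn, ← hax]
        exact hbr _ (a • x : Cls).2
    · exact absurd h (by simp)

/-- the classes fixed -/
def preSet (pre : List ℕ) : Set Cls := {k | k.1 ∈ pre}

theorem bound_le [Finite ↥(stabL hV)] (H : Subgroup ↥(stabL hV)) {T : List ℕ}
    (hT : ∀ i, i < T.length → ∃ g ∈ H, Rep hV g (tabOf T i)) :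
    ∀ (Ls : List Lev) (pre : List ℕ), levsOK T pre Ls = true →
      bound Ls ≤ Nat.card ↥(H ⊓ fixingSubgroup ↥(stabL hV) (preSet pre) : Subgroup ↥(stabL hV))
  | [], pre, _ => by
    simp only [bound, List.map_nil, List.prod_nil]
    exact Nat.card_pos
  | L :: Ls, pre, h => by
    simp only [levsOK, levOK, Bool.and_eq_true, decide_eq_true_eq, List.all_eq_true, beq_iff_eq] at h
    obtain ⟨⟨⟨⟨⟨⟨⟨hb, hgl⟩, hgf⟩, hinc⟩, hroot⟩, hrl⟩, hgrow⟩, hrest⟩ := h
    set K : Subgroup ↥(stabL hV) := H ⊓ fixingSubgroup ↥(stabL hV) (preSet pre) with hK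
    have hb' : L.b < 2 ^ 24 := by norm_num; exact hb
    set x : Cls := ⟨L.b, hb'⟩ with hx
    have hg : ∀ i ∈ L.gens, ∃ g ∈ K, Rep hV g (tabOf T i) := by
      intro i hi
      obtain ⟨g, hg, hr⟩ := hT i (hgl i hi)
      refine ⟨g, Subgroup.mem_inf.2 ⟨hg, ?_⟩, hr⟩
      rw [mem_fixingSubgroup_iff]
      intro k hk
      exact Subtype.ext ((coe_smul_cls g k).trans ((hr _ k.2).trans (hgf i hi k.1 hk)))
    have hpts : ∀ i, i < L.pts.length → ∃ g ∈ K, (g • x : Cls).1 = L.pts.getD i 0 := by
      intro i hi
      refine grow_mem K hg x L.steps _ _ hgrow ?_ i ?_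
      · intro j hj
        rw [Nat.testBit_two_pow, decide_eq_true_eq] at hj
        exact ⟨1, one_mem _, by rw [one_smul, ← hj, hroot]⟩
      · rw [Nat.testBit_two_pow_sub_one]; simpa using hi
    choose f hfK hf using hpts
    have horb : L.pts.length ≤ Nat.card (MulAction.orbit ↥K x) := by
      haveI : Finite (MulAction.orbit ↥K x) :=
        Finite.of_surjective (fun g : ↥K => (⟨g • x, MulAction.mem_orbit x g⟩ : MulAction.orbit ↥K x))
          fun ⟨y, hy⟩ => by
            obtain ⟨g, hg⟩ := hy
            exact ⟨g, Subtype.ext hg⟩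
      rw [← Nat.card_fin L.pts.length]
      refine Nat.card_le_card_of_injective (fun i : Fin L.pts.length =>
        (⟨(⟨f i.1 i.2, hfK _ _⟩ : ↥K) • x, MulAction.mem_orbit x _⟩ : MulAction.orbit ↥K x)) ?_
      intro i j hij
      have h1 : L.pts.getD i.1 0 = L.pts.getD j.1 0 := by
        rw [← hf _ i.2, ← hf _ j.2]
        exact congrArg (fun y : MulAction.orbit ↥K x => y.1.1) hij
      rcases lt_trichotomy i.1 j.1 with hl | hl | hl
      · exact absurd h1 (ne_of_lt (inc_getD _ hinc _ _ hl j.2))
      · exact Fin.ext hl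
      · exact absurd h1 (ne_of_gt (inc_getD _ hinc _ _ hl i.2))
    have hos := Nat.card_congr (MulAction.orbitProdStabilizerEquivGroup ↥K x)
    rw [Nat.card_prod] at hos
    have hst : Nat.card ↥(H ⊓ fixingSubgroup ↥(stabL hV) (preSet (pre ++ [L.b])) : Subgroup ↥(stabL hV)) ≤
        Nat.card ↥(MulAction.stabilizer ↥K x) := by
      refine Nat.card_le_card_of_injective (fun g => (⟨⟨g.1, ?_⟩, ?_⟩ : ↥(MulAction.stabilizer ↥K x))) ?_
      · refine Subgroup.mem_inf.2 ⟨(Subgroup.mem_inf.1 g.2).1, ?_⟩
        have := (Subgroup.mem_inf.1 g.2).2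
        rw [mem_fixingSubgroup_iff] at this ⊢
        exact fun k hk => this k (show k.1 ∈ pre ++ [L.b] from List.mem_append_left _ hk)
      · have := (Subgroup.mem_inf.1 g.2).2
        rw [mem_fixingSubgroup_iff] at this
        exact MulAction.mem_stabilizer_iff.2
          (this x (show L.b ∈ pre ++ [L.b] from List.mem_append_right _ List.mem_cons_self))
      · intro a b hab
        exact Subtype.ext (congrArg (fun y : ↥(MulAction.stabilizer ↥K x) => y.1.1) hab)
    rw [← hos]
    simp only [bound, List.map_cons, List.prod_cons]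
    exact Nat.mul_le_mul horb ((bound_le H hT Ls _ hrest).trans hst)

/-- two elements generate when the certified bound is the order -/
theorem closure_eq_top [Finite ↥(stabL hV)] {a b : ↥(stabL hV)} {T : List ℕ} {prog : List (ℕ × ℕ)}
    {Ls : List Lev} (hok : slpOK T prog = true) (hl : levsOK T [] Ls = true)
    (ha : Rep hV a (tabOf T 0)) (hb : Rep hV b (tabOf T 1))
    (hcard : Nat.card ↥(stabL hV) ≤ bound Ls) : Subgroup.closure {a, b} = ⊤ := by
  set H := Subgroup.closure ({a, b} : Set ↥(stabL hV))
  refine Subgroup.eq_top_of_le_card _ (hcard.trans ((bound_le H (slp_mem H hok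
    ⟨a, Subgroup.subset_closure (Or.inl rfl), ha⟩ ⟨b, Subgroup.subset_closure (Or.inr rfl), hb⟩) Ls [] hl).trans
      (Nat.card_le_card_of_injective _ (Subgroup.inclusion_injective inf_le_left))))

end CfsgLib.Leech.OutStab
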