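import Cfsg.Agent.Lib.Leech.OutStab.Rigid

/-!
The variant with an involution inverting the element of order eleven.
-/

set_option autoImplicit false
set_option maxRecDepth 10000

namespace CfsgLib.Leech.OutStab

open Cfsg CfsgLib.Golay CfsgLib.Leech CfsgLib.Leech.Mult CfsgLib.Golay.AutTwo

attribute [local irreducible] dL bL key keyL coord packB linL bits

/-- the cycles of the inverse of the element of order eleven -/
def domInv : List (ℕ × ℕ) := dom22.map fun t => (t.1, (11 - t.2) % 11)

/-- no permutation fixing the last point inverts the element of order eleven -/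
theorem no_inverter_chk :
    conjOK (2 ^ 23) [] (powP elt22 10) elt22 [0, 1, 5, 23] domInv [] = true := by decide +kernel

namespace Cert

variable (D : Cert)

/-- the involution inverts the element of order eleven -/
def invOK : Bool := mulC D.tC (permTab elt22) == mulC (powC (permTab elt22) 10) D.tC

/-- a word for every exponent other than one -/
def wordsOK (ws : List (List ℕ × ℕ)) : Bool :=
  (List.range 21).all fun i =>
    powC (wordTab (permTab shiftP) D.tC (ws.getD i ([], 0)).1) (ws.getD i ([], 0)).2 == pow2L &&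
      (List.range 24).any fun j =>
        comb (powC (wordTab (powC (permTab shiftP) (i + 2)) D.tC (ws.getD i ([], 0)).1) (ws.getD i ([], 0)).2)
          (2 ^ j) != 2 ^ j

end Cert

variable {V : List ℤ} (hV : inL V = true) (D : Cert)

section

variable (he : D.eltsOK V = true) (hf : D.fixedOK V = true) (hiv : D.invOK = true)

include he hiv in
theorem rel_inv : gC hV D * gY hV D he = gY hV D he ^ 10 * gC hV D :=
  Rep.eq hV (ne_zero hV D he) ((rep_gC hV D he).mul hV (rep_gY hV D he))
    ((show mulC D.tC (permTab elt22) = mulC (powC (permTab elt22) 10) D.tC from beq_iff_eq.1 hiv) ▸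
      (Rep.pow hV (rep_gY hV D he) 10).mul hV (rep_gC hV D he))

include he hf hiv in
theorem cent_Y_inv (w : ↥(stabL hV)) (hw : w * gY hV D he = gY hV D he * w) :
    ∃ i : ℕ, w = gY hV D he ^ i := by
  rcases cross_cases hV D he hf w hw with h | h
  · exact cross_Y hV D he w hw h
  · exfalso
    set u := gC hV D * w with hu
    have hrel : u * gY hV D he = gY hV D he ^ 10 * u := by
      rw [hu, mul_assoc, hw, ← mul_assoc, rel_inv hV D he hiv, mul_assoc]
    obtain ⟨h1, h0⟩ := vec_facts hV D he
    obtain ⟨τ, d, hτ, hd, hgd⟩ := crossStab_eq_mono (mem_crossStab.2 h : (u : ↥Co0) ∈ crossStab)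
    obtain ⟨hn, rfl⟩ := mono_stab h1 h0 hτ hd (hgd ▸ u.2)
    have hp : ∀ n : ℕ, seed11 ^ n = mono (pow_mem dblσ_mem_M24 n) empty_mem_CS := by
      intro n
      induction n with
      | zero => rw [pow_zero, one_eq_mono]; congr 1
      | succ n ih => rw [pow_succ', ih, seed11, mono_mul_nil]; congr 1; exact (pow_succ _ _).symm
    have he' : (u : ↥Co0) * seed11 = seed11 ^ 10 * (u : ↥Co0) := congrArg Subtype.val hrel
    rw [hgd, hp, seed11, mono_mul_nil, mono_mul_nil] at he'
    have hperm : τ * dblσ ^ 10 = dblσ * τ := (perm_unique he').symm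
    have hv := elt22_ok.2.2
    have hno := eq_of_conjOK (H := M24) (F := 2 ^ 23) le_rfl (by simp) no_inverter_chk (g := τ)
      (mem_fixH.2 ⟨hτ, fun p hp => by
        rw [(mem_dec_two_pow (by norm_num)).1 hp, show pt 23 = (none : GolayPt) by decide +kernel, hn]⟩)
      (by rw [(toPerm_powP hv 10).2]; exact hperm)
    obtain ⟨P, hP, -⟩ := hno
    exact absurd hP (List.not_mem_nil)

include he hf hiv in
/-- Every automorphism is inner. -/
theorem card_out_eq_one_of_inv {n : ℕ} (hcard : Nat.card ↥(stabL hV) = 23 * n) (hn : ¬ 23 ∣ n)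
    (hprog : slpOK D.T D.prog = true) (hlev : levsOK D.T [] D.levs = true) (hbound : 23 * n ≤ bound D.levs)
    {ws : List (List ℕ × ℕ)} (hw : D.wordsOK ws = true) : Nat.card (Cfsg.Out ↥(stabL hV)) = 1 := by
  haveI : Finite ↥(stabL hV) := Nat.finite_of_card_ne_zero (by
    rw [hcard]
    intro h0
    exact hn ⟨0, by omega⟩)
  haveI : Fact (Nat.Prime 23) := ⟨by norm_num⟩
  have h := he
  simp only [Cert.eltsOK, Bool.and_eq_true, beq_iff_eq] at h
  obtain ⟨hC2, hYX⟩ := rels hV D he
  have hCY := rel_inv hV D he hiv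
  have hne := ne_zero hV D he
  have hxo : orderOf (gX hV D he) = 23 := (Subgroup.orderOf_mk _ _).trans orderOf_seed
  have hgen := closure_eq_top (a := gX hV D he) (b := gC hV D) hprog hlev
    (h.1.1.1.2 ▸ rep_gX hV D he) (h.1.1.2 ▸ rep_gC hV D he) (hcard.le.trans hbound)
  simp only [Cert.wordsOK, Bool.and_eq_true, beq_iff_eq, List.any_eq_true, bne_iff_ne,
    List.all_eq_true, List.mem_range] at hw
  have hsep : ∀ (φ : MulAut ↥(stabL hV)) (i : ℕ), i < 21 → φ (gX hV D he) = gX hV D he ^ (i + 2) →
      φ (gC hV D) ≠ gC hV D := by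
    intro φ i hi hx hc
    obtain ⟨hw1, j, hj, hw2⟩ := hw i hi
    have e1 : (((ws.getD i ([], 0)).1.map fun a => gX hV D he ^ a * gC hV D).prod) ^ (ws.getD i ([], 0)).2 = 1 :=
      Rep.eq hV hne (Rep.pow hV (Rep.word hV (rep_gX hV D he) (rep_gC hV D he) _) _) (hw1.symm ▸ rep_one hV)
    have e2 : (((ws.getD i ([], 0)).1.map fun a => (gX hV D he ^ (i + 2)) ^ a * gC hV D).prod) ^
        (ws.getD i ([], 0)).2 = 1 := by
      have := congrArg φ e1
      rw [map_pow, map_one, map_list_prod, List.map_map] at this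
      rw [← this]
      congr 2
      exact List.map_congr_left fun a _ => by simp [Function.comp, hx, hc]
    have hk : 2 ^ j < 2 ^ 24 := Nat.pow_lt_pow_right (by norm_num) hj
    exact hw2 (((Rep.pow hV (Rep.word hV (Rep.pow hV (rep_gX hV D he) (i + 2)) (rep_gC hV D he) _) _) _ hk).symm.trans
      (by rw [e2]; exact act_one hk))
  refine out_eq_one (p := 23) (n := n) (gX hV D he) (gY hV D he) (gC hV D) hcard hn hxo
    (cent_X hV D he) 12 hYX (by norm_num) (by norm_num) hgen ?_ 1 ?_ rfl
  · intro φ hφ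
    have hφC : φ (gC hV D) * gY hV D he = gY hV D he ^ 10 * φ (gC hV D) := by
      have := congrArg φ hCY
      rwa [map_mul, map_mul, map_pow, hφ] at this
    have hCinv : (gC hV D)⁻¹ = gC hV D := inv_eq_of_mul_eq_one_left hC2
    have hs : SemiconjBy (gC hV D) (gY hV D he) (gY hV D he ^ 10) := hCY
    have hcomm : gC hV D * φ (gC hV D) * gY hV D he = gY hV D he * (gC hV D * φ (gC hV D)) := by
      have hY11 : gY hV D he ^ 11 = 1 := by
        rw [← (Subgroup.orderOf_mk seed11 (seed11_mem hV D he)).trans orderOf_seed11]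
        exact pow_orderOf_eq_one _
      rw [mul_assoc, hφC, ← mul_assoc, (hs.pow_right 10).eq, ← pow_mul,
        show gY hV D he ^ (10 * 10) = gY hV D he by
          rw [show 10 * 10 = 11 * 9 + 1 by rfl, pow_succ, pow_mul, hY11, one_pow, one_mul], mul_assoc]
    obtain ⟨i, hi⟩ := cent_Y_inv hV D he hf hiv _ hcomm
    refine ⟨5 * i, ?_⟩
    have hφ' : φ (gC hV D) = gC hV D * gY hV D he ^ i := by
      rw [← hi, ← mul_assoc, hC2, one_mul]
    rw [hφ', eq_mul_inv_iff_mul_eq, mul_assoc, ← pow_add]
    have hY11 : gY hV D he ^ 11 = 1 := by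
      rw [← (Subgroup.orderOf_mk seed11 (seed11_mem hV D he)).trans orderOf_seed11]
      exact pow_orderOf_eq_one _
    rw [(hs.pow_right (i + 5 * i)).eq, ← pow_mul]
    congr 1
    rw [show 10 * (i + 5 * i) = 11 * (5 * i) + 5 * i by ring, pow_add, pow_mul, hY11, one_pow, one_mul]
  · intro φ k hk hx hz
    refine ⟨1, by simp, Or.inl ?_⟩
    have hmod : gX hV D he ^ k = gX hV D he ^ (k % 23) := by rw [← pow_mod_orderOf, hxo]
    rcases Nat.lt_or_ge (k % 23) 2 with hlt | hge
    · have : k % 23 = 1 := by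
        have : k % 23 ≠ 0 := fun h0 => hk (Nat.dvd_of_mod_eq_zero h0)
        omega
      simp only [one_mul, inv_one, mul_one]
      rw [hmod, this, pow_one]
    · exfalso
      obtain ⟨i, hi⟩ : ∃ i, k % 23 = i + 2 := ⟨k % 23 - 2, by omega⟩
      exact hsep φ i (by have := Nat.mod_lt k (show 23 > 0 by norm_num); omega) (hx.trans (hmod.trans (by rw [hi]))) hz

end

end CfsgLib.Leech.OutStab
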