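import Cfsg.Agent.Lib.Leech.OutStab.Gen
import Cfsg.Agent.Lib.Leech.Seed11
import Cfsg.Agent.Lib.Golay.AutTwoCert

/-!
Vector stabilizers containing the seed whose automorphisms are all inner: the images of the seed and
of the involution centralizing the element of order eleven are pinned.
-/

set_option autoImplicit false
set_option maxRecDepth 10000

namespace CfsgLib.Leech.OutStab

open Cfsg CfsgLib.Golay CfsgLib.Leech CfsgLib.Leech.Mult CfsgLib.Golay.AutTwo

attribute [local irreducible] dL bL key keyL coord packB linL bits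

/-- the shift of the finite points, packed -/
def shiftP : ℕ := ((List.range 24).map fun i => (if i = 23 then 23 else (i + 1) % 23) * 32 ^ i).sum

/-- the table of a permutation of the coordinates -/
def permTab (Q : ℕ) : List ℕ := bL.map fun l => keyL (monoL Q 0 l)

/-- the standard cross vector -/
def e8L : List ℤ := (List.range 24).map fun i => if i = 23 then 8 else 0

/-- powers of tables -/
def powC (c : List ℕ) : ℕ → List ℕ
  | 0 => pow2L
  | n + 1 => mulC c (powC c n)

/-- alternating words -/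
def wordTab (x c : List ℕ) (w : List ℕ) : List ℕ :=
  (w.map fun a => mulC (powC x a) c).foldr mulC pow2L

/-- the data -/
structure Cert where
  /-- images of the basis under the involution -/
  wC : List (List ℤ)
  /-- the program -/
  prog : List (ℕ × ℕ)
  /-- packed tables of its lines -/
  T : List ℕ
  /-- the base -/
  levs : List Lev
  /-- left inverse on the moved part -/
  A : List ℕ
  /-- projection on the fixed classes -/
  P : List ℕ
  /-- the fixed classes -/
  F : List ℕ
  /-- vectors refuting fixed classes -/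
  wits : List (List ℤ)
  /-- exponents of a word -/
  word : List ℕ
  /-- its order -/
  n : ℕ

/-- the vector separates the class from the orbit of the standard cross -/
def witOK (V : List ℤ) (k : ℕ) (l : List ℤ) : Bool :=
  inL l && keyL l == k && (decide (dotL l l < 64) || (dotL l l == 64 &&
    (List.range 24).all fun i => (dotL l V).natAbs != 8 * (V.getD i 0).natAbs))

namespace Cert

variable (V : List ℤ) (D : Cert)

/-- the table of the involution -/
def tC : List ℕ := D.wC.map keyL

/-- the vector and the three elements -/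
def eltsOK : Bool :=
  (List.range 23).all (fun i => V.getD i 0 == 1) && decide (1 < (V.getD 23 0).natAbs) &&
    stabOK V D.wC && tabOf D.T 0 == permTab shiftP && tabOf D.T 1 == D.tC &&
    mulC D.tC D.tC == pow2L &&
    mulC (permTab elt22) (permTab shiftP) == mulC (powC (permTab shiftP) 12) (permTab elt22)

/-- the involution centralizes the element of order eleven -/
def commOK : Bool := mulC D.tC (permTab elt22) == mulC (permTab elt22) D.tC

/-- the fixed classes of the element of order eleven -/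
def fixedOK : Bool :=
  mulC D.A (permTab elt22) == xorL (xorL D.A pow2L) D.P && D.F.contains 0 &&
    D.P.all (fun p => D.F.contains p) && D.F.all (fun a => D.F.all fun b => D.F.contains (a ^^^ b)) &&
    D.F.all (fun k => k == keyL e8L || k == comb D.tC (keyL e8L) || D.wits.any (witOK V k))

/-- the word separating the seed from its inverse -/
def wordSepOK : Bool :=
  powC (wordTab (permTab shiftP) D.tC D.word) D.n == pow2L &&
    (List.range 24).any fun j =>
      comb (powC (wordTab (powC (permTab shiftP) 22) D.tC D.word) D.n) (2 ^ j) != 2 ^ j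

end Cert

variable {V : List ℤ} (hV : inL V = true) (D : Cert)

theorem Rep.pow {g : ↥(stabL hV)} {c : List ℕ} (h : Rep hV g c) : ∀ n : ℕ, Rep hV (g ^ n) (powC c n)
  | 0 => by rw [pow_zero]; exact rep_one hV
  | n + 1 => by rw [pow_succ']; exact h.mul hV (Rep.pow h n)

theorem Rep.word {x c : ↥(stabL hV)} {tx tc : List ℕ} (hx : Rep hV x tx) (hc : Rep hV c tc) :
    ∀ w : List ℕ, Rep hV ((w.map fun a => x ^ a * c).prod) (wordTab tx tc w)
  | [] => rep_one hV
  | a :: w => by
    simp only [List.map_cons, List.prod_cons, wordTab, List.foldr_cons]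
    exact ((Rep.pow hV hx a).mul hV hc).mul hV (Rep.word hx hc w)

theorem shiftP_ok : inM24 shiftP = true ∧ toPerm shiftP = shiftσ := by
  have h : inM24 shiftP = true := by decide +kernel
  refine ⟨h, ?_⟩
  have hv : validP shiftP = true := by simp only [inM24, Bool.and_eq_true] at h; exact h.1
  refine Equiv.ext fun p => ?_
  rw [toPerm_apply hv]
  revert p
  decide +kernel

theorem key_e8L : mainK 3 = keyL e8L := by
  rw [mainK_three none, ← keyL_eq (l := e8L) (by decide +kernel)]
  congr 1
  funext p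
  revert p
  decide +kernel

theorem rep_perm {Q : ℕ} {σ : Equiv.Perm GolayPt} (hQ : inM24 Q = true) (e : toPerm Q = σ) (hσ : σ ∈ M24)
    (g : ↥(stabL hV)) (hg : (g : ↥Co0) = mono hσ empty_mem_CS) : Rep hV g (permTab Q) := by
  intro k hk
  subst e
  have h0 : dec 0 = ∅ := by ext p; simp [mem_dec]
  rw [hg, permTab, ← act_mono hQ (m := 0) (by decide +kernel) hk hσ (h0 ▸ empty_mem_CS)]
  congr 1

section

variable (he : D.eltsOK V = true) (hf : D.fixedOK V = true)

theorem vec_facts (he : D.eltsOK V = true) :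
    (∀ x : ZMod 23, (⟨vec V, vec_mem hV⟩ : ↥leechLattice).1 (some x) = 1) ∧
      (⟨vec V, vec_mem hV⟩ : ↥leechLattice).1 none ∉ ({-1, 0, 1} : Finset ℤ) := by
  simp only [Cert.eltsOK, Bool.and_eq_true, List.all_eq_true, List.mem_range, beq_iff_eq,
    decide_eq_true_eq] at he
  refine ⟨fun x => ?_, ?_⟩
  · have h : idx (some x) < 23 := by revert x; decide
    exact he.1.1.1.1.1.1 _ h
  · have h := he.1.1.1.1.1.2
    show V.getD (idx none) 0 ∉ _
    rw [show idx none = 23 from rfl]
    simp only [Finset.mem_insert, Finset.mem_singleton]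
    omega

/-- the seed in the stabilizer -/
noncomputable def gX : ↥(stabL hV) :=
  ⟨seed, seed_mem_stab (a := ⟨vec V, vec_mem hV⟩) (vec_facts hV D he).1⟩

include he in
theorem seed11_mem : seed11 ∈ stabL hV := by
  rw [MulAction.mem_stabilizer_iff]
  refine Subtype.ext (funext fun p => ?_)
  obtain ⟨h1, -⟩ := vec_facts hV D he
  rw [seed11, mono_apply, if_neg (Finset.notMem_empty _)]
  cases p with
  | none => rw [dblσ_none]
  | some a => rw [dblσ_some, h1, h1]

/-- the element of order eleven in the stabilizer -/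
noncomputable def gY : ↥(stabL hV) := ⟨seed11, seed11_mem hV D he⟩

/-- the involution -/
noncomputable def gC : ↥(stabL hV) := stabElt hV D.wC

include he in
theorem rep_gX : Rep hV (gX hV D he) (permTab shiftP) :=
  rep_perm hV shiftP_ok.1 shiftP_ok.2 shiftσ_mem _ rfl

include he in
theorem rep_gY : Rep hV (gY hV D he) (permTab elt22) :=
  rep_perm hV elt22_ok.1 rfl dblσ_mem_M24 _ rfl

include he in
theorem rep_gC : Rep hV (gC hV D) D.tC := by
  simp only [Cert.eltsOK, Bool.and_eq_true] at he
  exact rep_stabElt hV he.1.1.1.1.2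

include hV he in
theorem ne_zero : vec V ≠ 0 := by
  intro h
  have := (vec_facts hV D he).1 0
  rw [show (⟨vec V, vec_mem hV⟩ : ↥leechLattice).1 = vec V from rfl, h] at this
  simp at this

include he in
theorem rels : gC hV D * gC hV D = 1 ∧ gY hV D he * gX hV D he = gX hV D he ^ 12 * gY hV D he := by
  have h := he
  simp only [Cert.eltsOK, Bool.and_eq_true, beq_iff_eq] at h
  have hne := ne_zero hV D he
  exact ⟨Rep.eq hV hne ((rep_gC hV D he).mul hV (rep_gC hV D he)) (h.1.2 ▸ rep_one hV),
    Rep.eq hV hne ((rep_gY hV D he).mul hV (rep_gX hV D he))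
      (h.2 ▸ (Rep.pow hV (rep_gX hV D he) 12).mul hV (rep_gY hV D he))⟩

include he in
theorem rel_comm (hcm : D.commOK = true) : gC hV D * gY hV D he = gY hV D he * gC hV D :=
  Rep.eq hV (ne_zero hV D he) ((rep_gC hV D he).mul hV (rep_gY hV D he))
    ((show mulC D.tC (permTab elt22) = mulC (permTab elt22) D.tC from beq_iff_eq.1 hcm) ▸
      (rep_gY hV D he).mul hV (rep_gC hV D he))

include he in
/-- an element of the cross stabilizer commuting with a permutation fixing the last point -/
theorem cross_comm {σ : Equiv.Perm GolayPt} (hσ : σ ∈ M24) {g : ↥(stabL hV)} (hg : (g : ↥Co0) ∈ crossStab)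
    (hc : (g : ↥Co0) * mono hσ empty_mem_CS = mono hσ empty_mem_CS * (g : ↥Co0)) :
    ∃ (τ : Equiv.Perm GolayPt) (hτ : τ ∈ M24), τ none = none ∧ τ * σ = σ * τ ∧
      (g : ↥Co0) = mono hτ empty_mem_CS := by
  obtain ⟨h1, h0⟩ := vec_facts hV D he
  obtain ⟨τ, d, hτ, hd, hgd⟩ := crossStab_eq_mono hg
  obtain ⟨hn, rfl⟩ := mono_stab h1 h0 hτ hd (hgd ▸ g.2)
  refine ⟨τ, hτ, hn, ?_, hgd⟩
  rw [hgd, mono_mul_nil, mono_mul_nil] at hc
  exact (perm_unique hc).symm

include he in
theorem cent_X (w : ↥(stabL hV)) (hw : w * gX hV D he = gX hV D he * w) :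
    w ∈ Subgroup.zpowers (gX hV D he) := by
  have hc : Commute seed (w : ↥Co0) := (congrArg Subtype.val hw).symm
  obtain ⟨τ, hτ, hn, hcomm, hwe⟩ :=
    cross_comm hV D he shiftσ_mem (normalizer_le_crossStab (normalizer_of_commute hc)) hc.eq.symm
  obtain ⟨c, hc0⟩ : ∃ c, τ (some 0) = some c := by
    cases h : τ (some 0) with
    | none => exact absurd (τ.injective (h.trans hn.symm)) (Option.some_ne_none _)
    | some c => exact ⟨c, rfl⟩
  have hτs : τ = shiftσ ^ c.val := by
    have hshift : ∀ n : ℕ, τ (some (n : ZMod 23)) = some ((n : ZMod 23) + c) := by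
      intro n
      induction n with
      | zero => rw [Nat.cast_zero, hc0, zero_add]
      | succ n ih =>
        have h := Equiv.ext_iff.1 hcomm (some (n : ZMod 23))
        rw [Equiv.Perm.mul_apply, Equiv.Perm.mul_apply, shiftσ_some, ih, shiftσ_some] at h
        rw [Nat.cast_succ, h, add_right_comm]
    have hp : ∀ n : ℕ, (shiftσ ^ n) none = none ∧ ∀ a : ZMod 23, (shiftσ ^ n) (some a) = some (a + n) := by
      intro n
      induction n with
      | zero => simp
      | succ n ih =>
        rw [pow_succ']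
        refine ⟨by rw [Equiv.Perm.mul_apply, ih.1, shiftσ_none], fun a => ?_⟩
        rw [Equiv.Perm.mul_apply, ih.2, shiftσ_some, Nat.cast_succ, add_assoc]
    refine Equiv.ext fun p => ?_
    cases p with
    | none => rw [hn, (hp _).1]
    | some a =>
      have := hshift a.val
      rw [ZMod.natCast_zmod_val] at this
      rw [this, (hp _).2, ZMod.natCast_zmod_val]
  refine Subgroup.mem_zpowers_iff.2 ⟨c.val, Subtype.ext ?_⟩
  rw [zpow_natCast, SubgroupClass.coe_pow]
  show seed ^ c.val = _
  rw [seed_pow, hwe]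
  congr 1
  exact hτs.symm

include hf in
theorem fixed_mem {k : ℕ} (hk : k < 2 ^ 24) (h : comb (permTab elt22) k = k) : k ∈ D.F := by
  simp only [Cert.fixedOK, Bool.and_eq_true, beq_iff_eq, List.contains_iff_mem, List.all_eq_true] at hf
  obtain ⟨⟨⟨⟨h1, h2⟩, h3⟩, h4⟩, -⟩ := hf
  have hP : comb D.P k = k := by
    have := congrArg (fun c => comb c k) h1
    simp only [mulC, comb_comb, h, comb_xorL, comb_pow2 hk] at this
    have h5 : comb D.A k ^^^ comb D.A k = comb D.A k ^^^ (comb D.A k ^^^ k ^^^ comb D.P k) := by rw [← this]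
    rw [Nat.xor_self, Nat.xor_assoc, ← Nat.xor_assoc, Nat.xor_self, Nat.zero_xor] at h5
    exact (Nat.xor_eq_zero_iff.1 h5.symm).symm
  have hclosed : ∀ (l : List ℕ), (∀ p ∈ l, p ∈ D.F) → ∀ m, comb l m ∈ D.F := by
    intro l
    induction l with
    | nil => intro _ m; exact h2
    | cons p l ih =>
      intro hl m
      simp only [comb]
      have hr := ih (fun q hq => hl q (List.mem_cons_of_mem _ hq)) (m / 2)
      by_cases hm : m % 2 = 1
      · simpa [hm] using h4 _ (hl p List.mem_cons_self) _ hr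
      · simpa [hm] using hr
  exact hP ▸ hclosed D.P h3 k

include he in
theorem cross_Y (u : ↥(stabL hV)) (hu : u * gY hV D he = gY hV D he * u)
    (hu3 : act (u : ↥Co0) (mainK 3) = mainK 3) : ∃ i : ℕ, u = gY hV D he ^ i := by
  obtain ⟨τ, hτ, -, hcomm, hue⟩ := cross_comm hV D he dblσ_mem_M24 (g := u) (mem_crossStab.2 hu3)
    (congrArg Subtype.val hu)
  obtain ⟨z, hz⟩ := Subgroup.mem_zpowers_iff.1 (cent_of_conjOK cent22 hτ hcomm)
  obtain ⟨i, hi⟩ := (isOfFinOrder_of_finite (toPerm elt22)).mem_powers_iff_mem_zpowers.2 ⟨z, hz⟩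
  refine ⟨i, Subtype.ext ?_⟩
  rw [SubgroupClass.coe_pow, hue]
  show _ = seed11 ^ i
  have hp : ∀ n : ℕ, seed11 ^ n = mono (pow_mem dblσ_mem_M24 n) empty_mem_CS := by
    intro n
    induction n with
    | zero => rw [pow_zero, one_eq_mono]; congr 1
    | succ n ih => rw [pow_succ', ih, seed11, mono_mul_nil]; congr 1; exact (pow_succ _ _).symm
  rw [hp]
  congr 1
  exact hi.symm

include he hf in
/-- an element commuting with the element of order eleven fixes the cross up to the involution -/
theorem cross_cases (w : ↥(stabL hV)) (hw : w * gY hV D he = gY hV D he * w) :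
    act (w : ↥Co0) (mainK 3) = mainK 3 ∨ act ((gC hV D * w : ↥(stabL hV)) : ↥Co0) (mainK 3) = mainK 3 := by
  obtain ⟨hC2, -⟩ := rels hV D he
  set k := act (w : ↥Co0) (mainK 3) with hk
  have hY3 : act seed11 (mainK 3) = mainK 3 := mem_crossStab.1 (mono_mem_crossStab dblσ_mem_M24 empty_mem_CS)
  have hkF : k ∈ D.F := by
    refine fixed_mem D hf (act_lt _ _) ?_
    rw [← rep_gY hV D he k (act_lt _ _), hk, ← act_mul]
    show act ((gY hV D he * w : ↥(stabL hV)) : ↥Co0) _ = _
    rw [← hw, Subgroup.coe_mul, act_mul]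
    congr 1
  simp only [Cert.fixedOK, Bool.and_eq_true, Bool.or_eq_true, beq_iff_eq, List.all_eq_true,
    List.any_eq_true] at hf
  rcases hf.2 k hkF with (h | h) | ⟨l, -, hl⟩
  · exact Or.inl (h.trans key_e8L.symm)
  · refine Or.inr ?_
    rw [Subgroup.coe_mul, act_mul, ← hk, h, ← key_e8L, ← rep_gC hV D he _ (mainK_lt 3), ← act_mul,
      ← Subgroup.coe_mul, hC2]
    exact act_one (mainK_lt 3)
  · exfalso
    simp only [witOK, Bool.and_eq_true, Bool.or_eq_true, decide_eq_true_eq, beq_iff_eq, List.all_eq_true,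
      List.mem_range, bne_iff_ne] at hl
    obtain ⟨⟨hl1, hl2⟩, hl3⟩ := hl
    set v : ↥leechLattice := ⟨vec l, vec_mem hl1⟩ with hv
    have hvk : key (v : GolayPt → ℤ) = k := (keyL_eq (inL_length hl1)).trans hl2
    have hu : key (((w : ↥Co0) • eightL none : ↥leechLattice) : GolayPt → ℤ) = k := by
      rw [hk, mainK_three none]
      exact (act_key (w : ↥Co0) (eightL none)).symm
    have hun : sqNorm (((w : ↥Co0) • eightL none : ↥leechLattice) : GolayPt → ℤ) = 64 :=
      (sqNorm_smul _ _).trans (sqNorm_eight none)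
    have hvn : sqNorm (v : GolayPt → ℤ) = dotL l l := sqNorm_vec (inL_length hl1)
    rcases hl3 with hlt | ⟨he64, hdots⟩
    · have := sqNorm_eq_of_key (Subtype.prop v) (Subtype.prop _) (by rw [hvn]; omega) hun.le (hvk.trans hu.symm)
      rw [hun, hvn] at this
      omega
    · have hkey : key (((w : ↥Co0)⁻¹ • v : ↥leechLattice) : GolayPt → ℤ) = mainK 3 := by
        rw [← act_key, hvk, hk, act_inv_act _ (mainK_lt 3)]
      obtain ⟨p, hp⟩ := cross_class (Subtype.prop _) ((sqNorm_smul _ v).trans (hvn.trans he64)) hkey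
      have hwV : (w : ↥Co0)⁻¹ • (⟨vec V, vec_mem hV⟩ : ↥leechLattice) = ⟨vec V, vec_mem hV⟩ :=
        inv_smul_eq_iff.2 (MulAction.mem_stabilizer_iff.1 w.2).symm
      have hd := dotInt_smul (w : ↥Co0)⁻¹ v (⟨vec V, vec_mem hV⟩ : ↥leechLattice)
      rw [hwV, show ((v : ↥leechLattice) : GolayPt → ℤ) = vec l from rfl,
        dotInt_vec (inL_length hl1) (inL_length hV)] at hd
      refine hdots (idx p) (idx_lt p) ?_
      rw [← hd]
      rcases hp with hp | hp <;> rw [hp, dotInt_comm]
      · rw [dotInt_eight, Int.natAbs_mul]; rfl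
      · rw [dotInt_neg_eight, Int.natAbs_neg, Int.natAbs_mul]; rfl

include he hf in
theorem cent_Y (hcm : D.commOK = true) (w : ↥(stabL hV)) (hw : w * gY hV D he = gY hV D he * w) :
    ∃ i : ℕ, w = gY hV D he ^ i ∨ w = gC hV D * gY hV D he ^ i := by
  obtain ⟨hC2, -⟩ := rels hV D he
  have hCY := rel_comm hV D he hcm
  rcases cross_cases hV D he hf w hw with h | h
  · obtain ⟨i, hi⟩ := cross_Y hV D he w hw h
    exact ⟨i, Or.inl hi⟩
  · obtain ⟨i, hi⟩ := cross_Y hV D he (gC hV D * w) (by rw [mul_assoc, hw, ← mul_assoc, hCY, mul_assoc]) h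
    exact ⟨i, Or.inr (by rw [← hi, ← mul_assoc, hC2, one_mul])⟩

include he hf in
/-- Every automorphism is inner. -/
theorem card_out_eq_one {n : ℕ} (hcard : Nat.card ↥(stabL hV) = 23 * n) (hn : ¬ 23 ∣ n)
    (hprog : slpOK D.T D.prog = true) (hlev : levsOK D.T [] D.levs = true) (hbound : 23 * n ≤ bound D.levs)
    (hw : D.wordSepOK = true) (hcm : D.commOK = true) : Nat.card (Cfsg.Out ↥(stabL hV)) = 1 := by
  haveI : Finite ↥(stabL hV) := Nat.finite_of_card_ne_zero (by
    rw [hcard]
    intro h0
    exact hn ⟨0, by omega⟩)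
  haveI : Fact (Nat.Prime 23) := ⟨by norm_num⟩
  have h := he
  simp only [Cert.eltsOK, Bool.and_eq_true, beq_iff_eq] at h
  obtain ⟨hC2, hYX⟩ := rels hV D he
  have hCY := rel_comm hV D he hcm
  have hne := ne_zero hV D he
  have hxo : orderOf (gX hV D he) = 23 := (Subgroup.orderOf_mk _ _).trans orderOf_seed
  have hgen := closure_eq_top (a := gX hV D he) (b := gC hV D) hprog hlev
    (h.1.1.1.2 ▸ rep_gX hV D he) (h.1.1.2 ▸ rep_gC hV D he) (hcard.le.trans hbound)
  simp only [Cert.wordSepOK, Bool.and_eq_true, beq_iff_eq, List.any_eq_true, bne_iff_ne,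
    List.mem_range] at hw
  obtain ⟨hw1, j, hj, hw2⟩ := hw
  have hsep : ∀ φ : MulAut ↥(stabL hV), φ (gX hV D he) = gX hV D he ^ 22 → φ (gC hV D) ≠ gC hV D := by
    intro φ hx hc
    have e1 : ((D.word.map fun a => gX hV D he ^ a * gC hV D).prod) ^ D.n = 1 :=
      Rep.eq hV hne (Rep.pow hV (Rep.word hV (rep_gX hV D he) (rep_gC hV D he) _) _) (hw1.symm ▸ rep_one hV)
    have e2 : ((D.word.map fun a => (gX hV D he ^ 22) ^ a * gC hV D).prod) ^ D.n = 1 := by
      have := congrArg φ e1
      rw [map_pow, map_one, map_list_prod, List.map_map] at this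
      rw [← this]
      congr 2
      exact List.map_congr_left fun a _ => by simp [Function.comp, hx, hc]
    have hk : 2 ^ j < 2 ^ 24 := Nat.pow_lt_pow_right (by norm_num) hj
    exact hw2 (((Rep.pow hV (Rep.word hV (Rep.pow hV (rep_gX hV D he) 22) (rep_gC hV D he) _) _) _ hk).symm.trans
      (by rw [e2]; exact act_one hk))
  have hYp : ∀ t : ℕ, gY hV D he ^ t * gX hV D he = gX hV D he ^ (12 ^ t) * gY hV D he ^ t := by
    intro t
    induction t with
    | zero => simp
    | succ t ih =>
      have hs : SemiconjBy (gY hV D he) (gX hV D he) (gX hV D he ^ 12) := hYX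
      rw [pow_succ', mul_assoc, ih, ← mul_assoc, (hs.pow_right (12 ^ t)).eq, ← pow_mul, mul_assoc,
        ← pow_succ']
  refine out_eq_one (p := 23) (n := n) (gX hV D he) (gY hV D he) (gC hV D) hcard hn hxo
    (cent_X hV D he) 12 hYX (by norm_num) (by norm_num) hgen ?_ 1 ?_ rfl
  · intro φ hφ
    refine ⟨0, ?_⟩
    have hφC : φ (gC hV D) * gY hV D he = gY hV D he * φ (gC hV D) := by
      have := congrArg φ hCY
      rwa [map_mul, map_mul, hφ] at this
    have hsq : φ (gC hV D) * φ (gC hV D) = 1 := by rw [← map_mul, hC2, map_one]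
    have hCne : gC hV D ≠ 1 := by
      intro hc
      have htop : Subgroup.zpowers (gX hV D he) = ⊤ := eq_top_iff.2 (hgen ▸ (Subgroup.closure_le _).2 (by
        rintro u (rfl | rfl)
        · exact Subgroup.mem_zpowers _
        · rw [hc]; exact one_mem _))
      have := congrArg (fun K : Subgroup ↥(stabL hV) => Nat.card K) htop
      simp only [Nat.card_zpowers, hxo, Subgroup.card_top, hcard] at this
      have h12 := hYX
      have hmem : gY hV D he ∈ Subgroup.zpowers (gX hV D he) := htop ▸ Subgroup.mem_top _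
      obtain ⟨z, hz⟩ := Subgroup.mem_zpowers_iff.1 hmem
      rw [← hz, ((Commute.refl (gX hV D he)).zpow_left z).eq] at h12
      have h1 := mul_right_cancel h12
      conv_lhs at h1 => rw [← pow_one (gX hV D he)]
      rw [pow_eq_pow_iff_modEq, hxo] at h1
      exact absurd h1 (by decide)
    have hYo : orderOf (gY hV D he) = 11 := (Subgroup.orderOf_mk _ _).trans orderOf_seed11
    have hodd : ∀ i : ℕ, gY hV D he ^ (2 * i) = 1 → gY hV D he ^ i = 1 := fun i hi => by
      have hd := orderOf_dvd_of_pow_eq_one hi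
      rw [hYo] at hd
      exact orderOf_dvd_iff_pow_eq_one.1 (hYo ▸ (Nat.Coprime.dvd_of_dvd_mul_left (by norm_num) hd))
    obtain ⟨i, hi | hi⟩ := cent_Y hV D he hf hcm _ hφC
    · exfalso
      rw [hi, ← pow_add, ← two_mul] at hsq
      rw [hodd i hsq] at hi
      exact hCne (φ.injective (hi.trans (map_one φ).symm))
    · have hs : Commute (gC hV D) (gY hV D he ^ i) := (show Commute (gC hV D) (gY hV D he) from hCY).pow_right i
      rw [hi, mul_assoc, ← mul_assoc (gY hV D he ^ i), ← hs.eq, ← mul_assoc, ← mul_assoc, hC2, one_mul,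
        ← pow_add, ← two_mul] at hsq
      rw [hi, hodd i hsq]
      simp
  · intro φ k hk hx hz
    have hkt : ∀ r : Fin 23, r.val ≠ 0 → (∃ t : Fin 11, r.val * 12 ^ t.val % 23 = 1) ∨
        ∃ t : Fin 11, r.val * 12 ^ t.val % 23 = 22 := by decide +kernel
    have hmove : ∀ t : ℕ, gY hV D he ^ t * gX hV D he ^ k * (gY hV D he ^ t)⁻¹ =
        gX hV D he ^ (k % 23 * 12 ^ t % 23) := by
      intro t
      have hs : SemiconjBy (gY hV D he ^ t) (gX hV D he) (gX hV D he ^ (12 ^ t)) := hYp t
      rw [(hs.pow_right k).eq, mul_inv_cancel_right, ← pow_mul, ← pow_mod_orderOf, hxo]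
      congr 1
      rw [mul_comm, Nat.mod_mul_mod]
    have hzc : ∀ t : ℕ, gY hV D he ^ t * gC hV D * (gY hV D he ^ t)⁻¹ = gC hV D := fun t => by
      rw [mul_inv_eq_iff_eq_mul]
      exact ((show Commute (gC hV D) (gY hV D he) from hCY).pow_right t).eq.symm
    rcases hkt ⟨k % 23, Nat.mod_lt _ (by norm_num)⟩ (fun h0 => hk (Nat.dvd_of_mod_eq_zero h0)) with
      ⟨t, ht⟩ | ⟨t, ht⟩
    · refine ⟨gY hV D he ^ t.val, hzc _, Or.inl ?_⟩
      rw [hmove, show k % 23 * 12 ^ t.val % 23 = 1 from ht, pow_one]
    · exfalso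
      refine hsep (MulAut.conj (gY hV D he ^ t.val) * φ) ?_ ?_
      · show gY hV D he ^ t.val * φ (gX hV D he) * (gY hV D he ^ t.val)⁻¹ = _
        rw [hx, hmove, show k % 23 * 12 ^ t.val % 23 = 22 from ht]
      · show gY hV D he ^ t.val * φ (gC hV D) * (gY hV D he ^ t.val)⁻¹ = _
        rw [hz, hzc]

end

end CfsgLib.Leech.OutStab
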