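import Cfsg.Agent.Lib.Leech.OutStab.GenFast
import Cfsg.Agent.Lib.Leech.OutStab.TwoData
import Cfsg.Agent.Lib.Leech.Sub.Cert32

/-!
The checks of the automorphism certificate of the stabilizer of a vector of norm 32.
-/

set_option autoImplicit false
set_option Elab.async false
set_option maxRecDepth 100000
set_option maxHeartbeats 4000000

namespace CfsgLib.Leech.OutStab

open Cfsg CfsgLib.Leech CfsgLib.Leech.Mult

theorem two_elts : twoCert.eltsOK cert32V = true := by decide +kernel

theorem two_fixed : twoCert.fixedOK cert32V = true := by decide +kernel

theorem two_inv : twoCert.invOK = true := by decide +kernel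

theorem two_words : twoCert.wordsOK twoWords = true := by decide +kernel

theorem two_prog : slpOK twoCert.T twoCert.prog = true := by decide +kernel

theorem two_lev0 : levFast twoT [] twoLev0 twoPack0 = true := by decide +kernel

theorem two_levs_rest :
    levsOK twoT [twoLev0.b] [twoLev1, twoLev2, twoLev3, twoLev4] = true := by decide +kernel

theorem two_levs : levsOK twoCert.T [] twoCert.levs = true := by
  show (levOK twoT [] twoLev0 && levsOK twoT [twoLev0.b] [twoLev1, twoLev2, twoLev3, twoLev4]) = true
  rw [levOK_of_fast two_lev0, two_levs_rest]
  rfl

theorem two_bound : bound twoCert.levs = 42305421312000 := by decide +kernel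

end CfsgLib.Leech.OutStab
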